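import Mathlib
import Cfsg.Agent.Lib.Chev.Cells
import Cfsg.Agent.Lib.Chev.BN
import Cfsg.Agent.Lib.BNPair
import Cfsg.Agent.Lib.Chev.RankOne
import Cfsg.Agent.Lib.ChevFix

/-!
# The coordinate of an element of `U` at a simple root; subgroups of `U` meeting every `U_p` properly

An element of `U` has a well defined coordinate at each fundamental root, and if `S ≤ U` has a
nonzero coordinate at each fundamental root, then any `p` with `p S p⁻¹ ≤ U` lies in `B`.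
-/

set_option autoImplicit false
set_option linter.unusedSectionVars false
set_option linter.unusedVariables false

namespace Cfsg.Agent.Lib.TwE6F4

open Cfsg.Lie Matrix Equiv Cfsg.Agent.Lib.Chev Cfsg.Agent.Lib.Chev.Full

variable {T : Tabs} {X : Extra} {R : RootTab} {D : ChevalleyDatum} (hF : Full T X R D)
variable {F : Type*} [Field F]

/-- The coordinate of an element at a fundamental root. -/
def Coord (i : ℕ) (x : GL D.Idx F) (t : F) : Prop :=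
  ∃ u ∈ Up D F i, x = u * hF.c.xG (D.simple i) t

include hF

theorem coord_exists {i : ℕ} (hi : i < D.rank) {u : GL D.Idx F} (hu : u ∈ D.posUnipotent F) :
    ∃ t, Coord hF i u t := by
  obtain ⟨u', hu', t, rfl⟩ := hF.mem_U_iff hi hu
  exact ⟨t, u', hu', rfl⟩

theorem xG_simple_not_mem_Up {i : ℕ} (hi : i < D.rank) {t : F} (ht : t ≠ 0) :
    hF.c.xG (D.simple i) t ∉ Up D F i := by
  intro h
  have hp := hF.simple_lt hi
  have h1 := hF.nS_conj_Up hi h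
  rw [hF.nS_conj_xG hi hp, hF.wf_simple hi] at h1
  have hη : ((X.eta i (D.simple i) : ℤ) : F) ≠ 0 := hF.eta_ne hi hp
  have h2 : hF.c.xG (D.neg (D.simple i)) (((X.eta i (D.simple i) : ℤ) : F) * t) ∈
      D.borelSubgroup F ⊓ D.negUnipotent F :=
    ⟨hF.c.posUnipotent_le_borel (hF.Up_le_U i h1), hF.xG_mem_V (hF.neg_lt_N hp (hF.simple_ge hi)) _⟩
  rw [hF.B_inf_V, Subgroup.mem_bot] at h2
  have h3 : hF.c.xG (D.neg (D.simple i)) (((X.eta i (D.simple i) : ℤ) : F) * t) =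
      hF.c.xG (D.neg (D.simple i)) (0 : F) := by
    rw [h2, hF.c.xG_zero]
  have h4 := hF.xG_param_inj (hF.neg_lt hp) h3
  exact (mul_ne_zero hη ht) h4

theorem coord_unique {i : ℕ} (hi : i < D.rank) {x : GL D.Idx F} {t t' : F} (h : Coord hF i x t)
    (h' : Coord hF i x t') : t = t' := by
  obtain ⟨u, hu, rfl⟩ := h
  obtain ⟨u', hu', e⟩ := h'
  by_contra hne
  apply xG_simple_not_mem_Up hF hi (sub_ne_zero.2 hne)
  have h1 : hF.c.xG (D.simple i) (t - t') = u⁻¹ * u' := by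
    have h2 : hF.c.xG (D.simple i) (t - t') = hF.c.xG (D.simple i) t * (hF.c.xG (D.simple i) t')⁻¹ := by
      rw [hF.c.xG_inv, hF.c.xG_add, sub_eq_add_neg]
    rw [h2, mul_inv_eq_iff_eq_mul, mul_assoc, ← e]
    group
  rw [h1]
  exact Subgroup.mul_mem _ (Subgroup.inv_mem _ hu) hu'

theorem coord_mem_Up {i : ℕ} (hi : i < D.rank) {x : GL D.Idx F} (h : Coord hF i x 0) : x ∈ Up D F i := by
  obtain ⟨u, hu, rfl⟩ := h
  rw [hF.c.xG_zero, mul_one]
  exact hu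

theorem coord_of_mem_Up {i : ℕ} {x : GL D.Idx F} (h : x ∈ Up D F i) : Coord hF i x 0 :=
  ⟨x, h, by rw [hF.c.xG_zero, mul_one]⟩

theorem coord_xG_self (i : ℕ) (t : F) : Coord hF i (hF.c.xG (D.simple i) t) t :=
  ⟨1, Subgroup.one_mem _, by rw [one_mul]⟩

theorem coord_xG_other {i r : ℕ} (hr : D.IsPosRoot r) (hne : r ≠ D.simple i) (t : F) :
    Coord hF i (hF.c.xG r t) 0 :=
  coord_of_mem_Up hF (hF.xG_mem_rootClosure ⟨hr, hne⟩ t)

theorem coord_mul {i : ℕ} (hi : i < D.rank) {x y : GL D.Idx F} {t s : F} (hx : Coord hF i x t)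
    (hy : Coord hF i y s) : Coord hF i (x * y) (t + s) := by
  obtain ⟨u, hu, rfl⟩ := hx
  obtain ⟨v, hv, rfl⟩ := hy
  have h1 := (Subgroup.mem_normalizer_iff.1 (hF.xp_mem_normalizer (F := F) hi t) v).1 hv
  refine ⟨u * (hF.c.xG (D.simple i) t * v * (hF.c.xG (D.simple i) t)⁻¹), Subgroup.mul_mem _ hu h1, ?_⟩
  rw [← hF.c.xG_add]
  group

theorem coord_inv {i : ℕ} (hi : i < D.rank) {x : GL D.Idx F} {t : F} (hx : Coord hF i x t) :
    Coord hF i x⁻¹ (-t) := by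
  obtain ⟨u, hu, rfl⟩ := hx
  have hn := Subgroup.inv_mem _ (hF.xp_mem_normalizer (F := F) hi t)
  have h1 := (Subgroup.mem_normalizer_iff.1 hn u⁻¹).1 (Subgroup.inv_mem _ hu)
  refine ⟨_, h1, ?_⟩
  rw [inv_inv, ← hF.c.xG_inv]
  group

/-- Coordinates are unchanged by conjugation in `U`. -/
theorem coord_conj_U {i : ℕ} (hi : i < D.rank) {x u : GL D.Idx F} {t : F} (hx : Coord hF i x t)
    (hu : u ∈ D.posUnipotent F) : Coord hF i (u * x * u⁻¹) t := by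
  obtain ⟨s, hs⟩ := coord_exists hF hi hu
  have h1 := coord_mul hF hi (coord_mul hF hi hs hx) (coord_inv hF hi hs)
  have e : s + t + -s = t := by ring
  rwa [e] at h1

/-- Coordinates under an element scaling root elements. -/
theorem coord_scale {g : GL D.Idx F} {χ : ℕ → Fˣ}
    (hg : ∀ s < D.nroots, ∀ t : F, g * hF.c.xG s t * g⁻¹ = hF.c.xG s (((χ s : Fˣ) : F) * t))
    {i : ℕ} (hi : i < D.rank) {x : GL D.Idx F} {t : F} (hx : Coord hF i x t) :
    Coord hF i (g * x * g⁻¹) (((χ (D.simple i) : Fˣ) : F) * t) := by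
  obtain ⟨u, hu, rfl⟩ := hx
  have h1 : g * u * g⁻¹ ∈ Up D F i := by
    have h2 : Up D F i ≤ (Up D F i).comap (MulAut.conj g).toMonoidHom := by
      conv_lhs => rw [Up, rootClosure]
      rw [Subgroup.closure_le]
      rintro y ⟨s, a, hs, hy⟩
      show g * y * g⁻¹ ∈ Up D F i
      rw [hF.c.eq_xG hy, hg s ((hF.isPos_iff).1 hs.1).1]
      exact hF.xG_mem_rootClosure hs _
    exact h2 hu
  refine ⟨_, h1, ?_⟩
  rw [← hg _ (hF.simple_lt hi)]
  group

theorem coord_tor (c : Fin D.rank → Fˣ) {i : ℕ} (hi : i < D.rank) {x : GL D.Idx F} {t : F}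
    (hx : Coord hF i x t) :
    Coord hF i (tor R D c * x * (tor R D c)⁻¹) (((chiT D c (D.simple i) : Fˣ) : F) * t) :=
  coord_scale hF (χ := chiT D c) (fun s hs t => hF.tor_conj_xG c hs t) hi hx

/-- `U` is normalized by `B`. -/
theorem borel_conj_U {b u : GL D.Idx F} (hb : b ∈ D.borelSubgroup F) (hu : u ∈ D.posUnipotent F) :
    b * u * b⁻¹ ∈ D.posUnipotent F := by
  obtain ⟨u₁, hu₁, h, hh, rfl⟩ := (hF.mem_borel_iff).1 hb
  have h1 := (Subgroup.mem_normalizer_iff.1 (hF.diagonal_le_normalizer_U hh) u).1 hu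
  have e : u₁ * h * u * (u₁ * h)⁻¹ = u₁ * (h * u * h⁻¹) * u₁⁻¹ := by group
  rw [e]
  exact Subgroup.mul_mem _ (Subgroup.mul_mem _ hu₁ h1) (Subgroup.inv_mem _ hu₁)

/-- A nonzero coordinate stays nonzero under conjugation in `B`. -/
theorem coord_ne_zero_borel {i : ℕ} (hi : i < D.rank) {b x : GL D.Idx F} {t : F}
    (hb : b ∈ D.borelSubgroup F) (hx : Coord hF i x t) (ht : t ≠ 0) :
    ∃ t', t' ≠ 0 ∧ Coord hF i (b * x * b⁻¹) t' := by
  obtain ⟨u₁, hu₁, h, hh, rfl⟩ := (hF.mem_borel_iff).1 hb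
  obtain ⟨c, rfl⟩ := (hF.mem_diagonal_iff).1 hh
  have h1 := coord_conj_U hF hi (coord_tor hF c hi hx) hu₁
  refine ⟨((chiT D c (D.simple i) : Fˣ) : F) * t, mul_ne_zero (Units.ne_zero _) ht, ?_⟩
  have e : u₁ * tor R D c * x * (u₁ * tor R D c)⁻¹ = u₁ * (tor R D c * x * (tor R D c)⁻¹) * u₁⁻¹ := by group
  rw [e]
  exact h1

/-- **Key lemma.**  A subgroup of `U` with nonzero coordinates at all fundamental roots cannot be moved
into `U` by an element outside `B`. -/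
theorem mem_borel_of_conj {S : Set (GL D.Idx F)} (hS : S ⊆ D.posUnipotent F)
    (hne : ∀ i < D.rank, ∃ y ∈ S, ∃ t : F, t ≠ 0 ∧ Coord hF i y t)
    {p : GL D.Idx F} (hp : p ∈ D.group F) (hc : ∀ x ∈ S, p * x * p⁻¹ ∈ D.posUnipotent F) :
    p ∈ D.borelSubgroup F := by
  obtain ⟨m', hm', hgm⟩ := Cfsg.Agent.Lib.BNPair.exists_mem_dc (P := hF.bnPair F) ⟨p, hp⟩
  have hmN : m'.1 ∈ D.monomialSubgroup F := Subgroup.mem_subgroupOf.1 hm'
  obtain ⟨b₁, hb₁, b₂, hb₂, e⟩ := Cfsg.Agent.Lib.BNPair.mem_dc.1 hgm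
  let n : ↥(D.monomialSubgroup F) := ⟨m'.1, hmN⟩
  have hb₁' : b₁.1 ∈ D.borelSubgroup F := Subgroup.mem_subgroupOf.1 hb₁
  have hb₂' : b₂.1 ∈ D.borelSubgroup F := Subgroup.mem_subgroupOf.1 hb₂
  have e' : p = b₁.1 * n.1 * b₂.1 := congrArg Subtype.val e
  by_cases hk0 : Full.invF R D (hF.rhoN F n) = 0
  · have h1 := hF.eq_one_of_invF (hF.rhoN_mem_Wk n) hk0
    have h2 := hF.mem_diagonal_of_rhoN_eq_one h1
    rw [e']
    exact Subgroup.mul_mem _ (Subgroup.mul_mem _ hb₁' (hF.c.diagonal_le_borel h2)) hb₂'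
  · exfalso
    obtain ⟨i, hi, -, hneg⟩ := hF.exists_simple_neg (hF.rhoN_mem_Wk n) hk0
    let n₂ : ↥(D.monomialSubgroup F) := n * (hF.nN hi)⁻¹
    have hsq : hF.rhoN F n₂ = hF.rhoN F n * hF.wPerm hi := by
      rw [map_mul, map_inv, hF.rhoN_nN, hF.wPerm_inv]
    have hpos : R.N ≤ ((hF.rhoN F n₂ ⟨D.simple i, hF.simple_lt hi⟩ : Fin D.nroots) : ℕ) := by
      rw [hsq, Perm.mul_apply]
      have h2 : hF.wPerm hi ⟨D.simple i, hF.simple_lt hi⟩ = hF.negF ⟨D.simple i, hF.simple_lt hi⟩ :=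
        Fin.ext (hF.wf_simple hi)
      rw [h2, hF.neg_comm (hF.rhoN_mem_Wk n)]
      have h7 := hF.negF_lt_iff (hF.negF (hF.rhoN F n ⟨D.simple i, hF.simple_lt hi⟩))
      rw [hF.negF_negF] at h7
      exact h7.1 hneg
    have h4 : n₂.1 * hF.nS i = n.1 := by
      show n.1 * (hF.nS i)⁻¹ * hF.nS i = n.1
      group
    obtain ⟨y, hyS, t, ht, hyc⟩ := hne i hi
    obtain ⟨t', ht', u', hu', hx'⟩ := coord_ne_zero_borel hF hi hb₂' hyc ht
    set x' := b₂.1 * y * b₂.1⁻¹ with hx'def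
    -- `v = n x' n⁻¹`
    have hv : n.1 * x' * n.1⁻¹ ∈ D.posUnipotent F := by
      have h5 := borel_conj_U hF (Subgroup.inv_mem _ hb₁') (hc y hyS)
      have e5 : b₁.1⁻¹ * (p * y * p⁻¹) * (b₁.1⁻¹)⁻¹ = n.1 * x' * n.1⁻¹ := by
        rw [e', hx'def]
        group
      rwa [e5] at h5
    set v := n.1 * x' * n.1⁻¹ with hvdef
    have hvB := hF.c.posUnipotent_le_borel hv
    have hu''B : hF.nS i * u' * (hF.nS i)⁻¹ ∈ D.borelSubgroup F :=
      hF.c.posUnipotent_le_borel (hF.Up_le_U i (hF.nS_conj_Up hi hu'))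
    have hg : n₂.1 * (hF.nS i * u' * (hF.nS i)⁻¹) ∈ Full.cellS D F n₂.1 :=
      Full.cell_mul_right (Full.self_mem_cell _) hu''B
    have hg' : v * n₂.1 ∈ Full.cellS D F n₂.1 :=
      ⟨v, hvB, 1, Subgroup.one_mem _, by group⟩
    have key : n₂.1 * (hF.nS i * u' * (hF.nS i)⁻¹) * hF.nS i * hF.c.xG (D.simple i) t' =
        v * n₂.1 * hF.nS i * hF.c.xG (D.simple i) (0 : F) := by
      rw [hF.c.xG_zero, mul_one, mul_assoc v, h4, hvdef, hx', ← h4]
      group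
    exact ht' (hF.cell_step_inj hi hpos hg hg' key)

/-! ### Change of field -/

section Map

variable {F₀ : Type*} [Field F₀] (ι : F₀ →+* F)

theorem glM_Up (i : ℕ) {x : GL D.Idx F₀} (hx : x ∈ Up D F₀ i) :
    Cfsg.Agent.Lib.ChevFix.glM D ι x ∈ Up D F i := by
  have h : Up D F₀ i ≤ (Up D F i).comap (Cfsg.Agent.Lib.ChevFix.glM D ι) := by
    conv_lhs => rw [Up, rootClosure]
    rw [Subgroup.closure_le]
    rintro y ⟨s, a, hs, hy⟩
    show Cfsg.Agent.Lib.ChevFix.glM D ι y ∈ Up D F i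
    rw [hF.c.eq_xG hy, Cfsg.Agent.Lib.ChevFix.Fix.glM_xG hF]
    exact hF.xG_mem_rootClosure hs _
  exact h hx

theorem glM_U {x : GL D.Idx F₀} (hx : x ∈ D.posUnipotent F₀) :
    Cfsg.Agent.Lib.ChevFix.glM D ι x ∈ D.posUnipotent F := by
  have h : D.posUnipotent F₀ ≤ (D.posUnipotent F).comap (Cfsg.Agent.Lib.ChevFix.glM D ι) := by
    conv_lhs => rw [ChevalleyDatum.posUnipotent]
    rw [Subgroup.closure_le]
    rintro y ⟨s, a, hs, hy⟩
    show Cfsg.Agent.Lib.ChevFix.glM D ι y ∈ D.posUnipotent F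
    rw [hF.c.eq_xG hy, Cfsg.Agent.Lib.ChevFix.Fix.glM_xG hF]
    have h2 := (hF.isPos_iff).1 hs
    exact hF.xG_mem_U h2.1 h2.2 _
  exact h hx

theorem coord_glM {i : ℕ} {x : GL D.Idx F₀} {t : F₀} (h : Coord hF i x t) :
    Coord hF i (Cfsg.Agent.Lib.ChevFix.glM D ι x) (ι t) := by
  obtain ⟨u, hu, rfl⟩ := h
  refine ⟨_, glM_Up hF ι i hu, ?_⟩
  rw [map_mul, Cfsg.Agent.Lib.ChevFix.Fix.glM_xG hF]

end Map

end Cfsg.Agent.Lib.TwE6F4
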