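import Mathlib
import Cfsg.Agent.Lib.FixE6
import Cfsg.Agent.Lib.TwE6F4.Coord

/-!
# `F₄(2)` inside `E₆(2)` and its Sylow `2`-subgroup
-/

set_option autoImplicit false
set_option linter.unusedSectionVars false
set_option linter.unusedVariables false

namespace Cfsg.Agent.Lib.TwE6F4

open Cfsg Cfsg.Lie Matrix Equiv Cfsg.Agent.Lib.Chev Cfsg.Agent.Lib.Chev.Full Cfsg.Agent.Lib.FixIso

/-- The group `F₄(2)` inside `E₆(2)`. -/
noncomputable abbrev H2 : Subgroup (GL chevE6.Idx (ZMod 2)) := (TwE6.sc (RingEquiv.refl (ZMod 2))).G1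

/-- The isomorphism with `F₄(2)`. -/
noncomputable def resEquiv : ↥H2 ≃* ↥(chevF4.group (ZMod 2)) :=
  MulEquiv.ofBijective (FixE6.itw (F := ZMod 2)).res
    ⟨(FixE6.itw (F := ZMod 2)).res_injective TwE6.hJJ TwE6.conn FixE6.hnt, (FixE6.itw (F := ZMod 2)).res_surjective⟩

/-- The generators `y_k`. -/
noncomputable def yk (k : ℕ) : GL chevE6.Idx (ZMod 2) :=
  TwE6.hF.c.wordG (cw TwTabE6.S.r (RingEquiv.refl (ZMod 2)) (chevE6.simple (TwE6.A k)) (TwE6.dd k) 1)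

theorem yk_mem_H2 {k : ℕ} (hk : k < chevE6.rank) : yk k ∈ H2 :=
  Subgroup.subset_closure ⟨k, hk, 1, FixE6.iter_refl _ _, Or.inl rfl⟩

section Words

variable {F : Type*} [Field F]

theorem coord_pair_left {a b : ℕ} (ha : a < chevE6.rank) (hb : b < chevE6.rank)
    (hab : chevE6.simple b ≠ chevE6.simple a) (t s : F) :
    Coord TwE6.hF a (TwE6.hF.c.xG (chevE6.simple a) t * TwE6.hF.c.xG (chevE6.simple b) s) t := by
  have h1 := coord_mul TwE6.hF ha (coord_xG_self TwE6.hF a t)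
    (coord_xG_other TwE6.hF ((TwE6.hF.isPos_iff).2 ⟨TwE6.hF.simple_lt hb, TwE6.hF.simple_ge hb⟩) hab s)
  rwa [add_zero] at h1

theorem coord_pair_right {a b : ℕ} (ha : a < chevE6.rank) (hb : b < chevE6.rank)
    (hab : chevE6.simple a ≠ chevE6.simple b) (t s : F) :
    Coord TwE6.hF b (TwE6.hF.c.xG (chevE6.simple a) t * TwE6.hF.c.xG (chevE6.simple b) s) s := by
  have h1 := coord_mul TwE6.hF hb
    (coord_xG_other TwE6.hF ((TwE6.hF.isPos_iff).2 ⟨TwE6.hF.simple_lt ha, TwE6.hF.simple_ge ha⟩) hab t)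
    (coord_xG_self TwE6.hF b s)
  rwa [zero_add] at h1

theorem pair_mem_U {a b : ℕ} (ha : a < chevE6.rank) (hb : b < chevE6.rank) (t s : F) :
    TwE6.hF.c.xG (chevE6.simple a) t * TwE6.hF.c.xG (chevE6.simple b) s ∈ chevE6.posUnipotent F :=
  Subgroup.mul_mem _ (TwE6.hF.xG_mem_U (TwE6.hF.simple_lt ha) (TwE6.hF.simple_ge ha) _)
    (TwE6.hF.xG_mem_U (TwE6.hF.simple_lt hb) (TwE6.hF.simple_ge hb) _)

end Words

theorem rho_simple : TwTabE6.S.r (chevE6.simple 0) = chevE6.simple 5 ∧ TwTabE6.S.r (chevE6.simple 2) = chevE6.simple 4 ∧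
    TwTabE6.S.r (chevE6.neg (chevE6.simple 0)) = chevE6.neg (chevE6.simple 5) ∧
    TwTabE6.S.r (chevE6.neg (chevE6.simple 2)) = chevE6.neg (chevE6.simple 4) := by
  decide +kernel

theorem yk_eq : yk 0 = TwE6.hF.c.xG (chevE6.simple 0) 1 * TwE6.hF.c.xG (chevE6.simple 5) 1 ∧
    yk 1 = TwE6.hF.c.xG (chevE6.simple 1) 1 ∧
    yk 2 = TwE6.hF.c.xG (chevE6.simple 2) 1 * TwE6.hF.c.xG (chevE6.simple 4) 1 ∧
    yk 3 = TwE6.hF.c.xG (chevE6.simple 3) 1 ∧
    yk 4 = TwE6.hF.c.xG (chevE6.simple 2) 1 * TwE6.hF.c.xG (chevE6.simple 4) 1 ∧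
    yk 5 = TwE6.hF.c.xG (chevE6.simple 0) 1 * TwE6.hF.c.xG (chevE6.simple 5) 1 := by
  obtain ⟨r0, r2, -, -⟩ := rho_simple
  have e2 : ∀ a b : ℕ, TwTabE6.S.r (chevE6.simple a) = chevE6.simple b →
      TwE6.hF.c.wordG (cw TwTabE6.S.r (RingEquiv.refl (ZMod 2)) (chevE6.simple a) 2 1) =
        TwE6.hF.c.xG (chevE6.simple a) 1 * TwE6.hF.c.xG (chevE6.simple b) 1 := by
    intro a b h
    show TwE6.hF.c.wordG [(chevE6.simple a, (1 : ZMod 2)), (TwTabE6.S.r (chevE6.simple a), 1)] = _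
    rw [h, Checks.wordG_cons, Checks.wordG_cons, Checks.wordG_nil, mul_one]
  have e1 : ∀ a : ℕ, TwE6.hF.c.wordG (cw TwTabE6.S.r (RingEquiv.refl (ZMod 2)) (chevE6.simple a) 1 1) =
        TwE6.hF.c.xG (chevE6.simple a) 1 := by
    intro a
    show TwE6.hF.c.wordG [(chevE6.simple a, (1 : ZMod 2))] = _
    rw [Checks.wordG_cons, Checks.wordG_nil, mul_one]
  exact ⟨e2 0 5 r0, e1 1, e2 2 4 r2, e1 3, e2 2 4 r2, e2 0 5 r0⟩

theorem yk_U {k : ℕ} (hk : k < chevE6.rank) : yk k ∈ chevE6.posUnipotent (ZMod 2) := by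
  obtain ⟨h0, h1, h2, h3, h4, h5⟩ := yk_eq
  have hk' : k < 6 := hk
  have hx : ∀ a : ℕ, a < chevE6.rank → TwE6.hF.c.xG (chevE6.simple a) (1 : ZMod 2) ∈ chevE6.posUnipotent (ZMod 2) :=
    fun a ha => TwE6.hF.xG_mem_U (TwE6.hF.simple_lt ha) (TwE6.hF.simple_ge ha) _
  interval_cases k
  · rw [h0]; exact pair_mem_U (by decide) (by decide) _ _
  · rw [h1]; exact hx 1 (by decide)
  · rw [h2]; exact pair_mem_U (by decide) (by decide) _ _
  · rw [h3]; exact hx 3 (by decide)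
  · rw [h4]; exact pair_mem_U (by decide) (by decide) _ _
  · rw [h5]; exact pair_mem_U (by decide) (by decide) _ _

theorem yk_coord {k : ℕ} (hk : k < chevE6.rank) : Coord TwE6.hF k (yk k) 1 := by
  obtain ⟨h0, h1, h2, h3, h4, h5⟩ := yk_eq
  have hk' : k < 6 := hk
  interval_cases k
  · rw [h0]; exact coord_pair_left (by decide) (by decide) (by decide +kernel) _ _
  · rw [h1]; exact coord_xG_self _ _ _
  · rw [h2]; exact coord_pair_left (by decide) (by decide) (by decide +kernel) _ _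
  · rw [h3]; exact coord_xG_self _ _ _
  · rw [h4]; exact coord_pair_right (by decide) (by decide) (by decide +kernel) _ _
  · rw [h5]; exact coord_pair_right (by decide) (by decide) (by decide +kernel) _ _

theorem units_two (u : (ZMod 2)ˣ) : u = 1 := by
  apply Units.ext
  have h := u.ne_zero
  generalize (u : ZMod 2) = a at *
  revert a
  decide

theorem zmod2_eq (a : ZMod 2) : a = 0 ∨ a = 1 := by
  revert a
  decide

theorem borel_two {x : GL chevE6.Idx (ZMod 2)} (hx : x ∈ chevE6.borelSubgroup (ZMod 2)) :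
    x ∈ chevE6.posUnipotent (ZMod 2) := by
  obtain ⟨u, hu, h, hh, rfl⟩ := (TwE6.hF.mem_borel_iff).1 hx
  obtain ⟨c, rfl⟩ := (TwE6.hF.mem_diagonal_iff).1 hh
  have hc : c = 1 := by
    funext i
    exact units_two _
  rw [hc, tor_one, mul_one]
  exact hu

/-- The Sylow subgroup. -/
noncomputable abbrev S2 : Subgroup ↥H2 := (chevE6.posUnipotent (ZMod 2)).subgroupOf H2

instance : Finite (GL chevE6.Idx (ZMod 2)) := inferInstance

theorem isPGroup_S2 : IsPGroup 2 ↥S2 := by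
  have hc : Nat.card ↥(chevE6.posUnipotent (ZMod 2)) = 2 ^ RootE6T.R.N := by
    rw [TwE6.hF.card_U_fintype, ZMod.card]
  have hU : IsPGroup 2 ↥(chevE6.posUnipotent (ZMod 2)) := IsPGroup.of_card hc
  intro g
  obtain ⟨k, hk⟩ := hU ⟨g.1.1, Subgroup.mem_subgroupOf.1 g.2⟩
  refine ⟨k, ?_⟩
  apply Subtype.ext
  apply Subtype.ext
  have := congrArg Subtype.val hk
  simpa using this

/-- A self-normalizing `p`-subgroup is a Sylow subgroup. -/
theorem sylow_of_selfNorm {G : Type*} [Group G] [Finite G] {p : ℕ} [Fact p.Prime] (S : Subgroup G)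
    (hS : IsPGroup p ↥S) (hN : ∀ x : G, (∀ a ∈ S, x * a * x⁻¹ ∈ S) → x ∈ S) :
    ∃ P : Sylow p G, (P : Subgroup G) = S := by
  obtain ⟨P, hP⟩ := hS.exists_le_sylow
  refine ⟨P, le_antisymm ?_ hP⟩
  by_contra hne
  have : Group.IsNilpotent ↥(P : Subgroup G) := P.isPGroup'.isNilpotent
  have hsub : S.subgroupOf (P : Subgroup G) < ⊤ := by
    rw [lt_top_iff_ne_top]
    intro h
    apply hne
    intro x hx
    have : (⟨x, hx⟩ : ↥(P : Subgroup G)) ∈ S.subgroupOf (P : Subgroup G) := by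
      rw [h]
      exact Subgroup.mem_top _
    exact Subgroup.mem_subgroupOf.1 this
  have hN' := Group.normalizerCondition_of_isNilpotent (G := ↥(P : Subgroup G)) _ hsub
  obtain ⟨x, hxN, hxS⟩ := SetLike.exists_of_lt hN'
  apply hxS
  apply Subgroup.mem_subgroupOf.2
  apply hN
  intro a ha
  have h1 : (⟨a, hP ha⟩ : ↥(P : Subgroup G)) ∈ S.subgroupOf (P : Subgroup G) := Subgroup.mem_subgroupOf.2 ha
  have h2 := (Subgroup.mem_normalizer_iff.1 hxN _).1 h1
  exact Subgroup.mem_subgroupOf.1 h2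

/-- `S2` is a Sylow subgroup: it is self-normalizing, by the key lemma. -/
theorem exists_sylow : ∃ P : Sylow 2 ↥H2, (P : Subgroup ↥H2) = S2 := by
  have : Fact (Nat.Prime 2) := ⟨Nat.prime_two⟩
  apply sylow_of_selfNorm _ isPGroup_S2
  intro x hconj
  apply Subgroup.mem_subgroupOf.2
  apply borel_two
  refine mem_borel_of_conj TwE6.hF (S := {g | g ∈ chevE6.posUnipotent (ZMod 2) ∧ g ∈ H2}) (fun g hg => hg.1) ?_
      ((TwE6.sc (RingEquiv.refl (ZMod 2))).G1_le_Fx x.2).1 ?_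
  · intro k hk
    exact ⟨yk k, ⟨yk_U hk, yk_mem_H2 hk⟩, 1, one_ne_zero, yk_coord hk⟩
  · rintro g ⟨hg1, hg2⟩
    have h1 := Subgroup.mem_subgroupOf.1 (hconj ⟨g, hg2⟩ (Subgroup.mem_subgroupOf.2 hg1))
    rw [Subgroup.coe_mul, Subgroup.coe_mul, Subgroup.coe_inv] at h1
    exact h1

/-- A Sylow subgroup is moved by any automorphism to a conjugate. -/
theorem sylow_aut {G : Type*} [Group G] [Finite G] {p : ℕ} [Fact p.Prime] (P : Sylow p G) (θ : MulAut G) :
    ∃ a : G, ∀ s : G, s ∈ (P : Subgroup G) ↔ a * θ s * a⁻¹ ∈ (P : Subgroup G) := by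
  obtain ⟨a, ha⟩ := MulAction.exists_smul_eq G (θ • P) P
  refine ⟨a, fun s => ?_⟩
  have h1 : ((a • (θ • P) : Sylow p G) : Subgroup G) = (P : Subgroup G) := by
    rw [ha]
  rw [Sylow.coe_subgroup_smul, Sylow.pointwise_smul_def] at h1
  have h2 : a * θ s * a⁻¹ = (MulAut.conj a) • (θ • s) := rfl
  rw [h2]
  conv_rhs => rw [← h1]
  rw [Subgroup.smul_mem_pointwise_smul_iff, Subgroup.smul_mem_pointwise_smul_iff]

end Cfsg.Agent.Lib.TwE6F4
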