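import Mathlib
import Cfsg.Agent.Lib.TwE6F4.Syl
import Cfsg.Agent.Lib.ChevAut.Cons
import Cfsg.Agent.Lib.Chev.TwE6BN

/-!
# Three classes of `F₄(2)` in `²E₆(2)`

The group `F₄(2)`, embedded in `E₆(4)` by the change of field `𝔽₂ → 𝔽₄`, and its conjugates under
the diagonal element `d` of order three.
-/

set_option autoImplicit false
set_option linter.unusedSectionVars false
set_option linter.unusedVariables false

namespace Cfsg.Agent.Lib.TwE6F4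

open Cfsg Cfsg.Lie Matrix Equiv Cfsg.Agent.Lib.Chev Cfsg.Agent.Lib.Chev.Full Cfsg.Agent.Lib.FixIso
open Cfsg.Agent.Lib.ChevFix

variable {K : Type*} [Field K]

/-- Values on the fundamental roots of the diagonal element. -/
noncomputable def vv (ω : Kˣ) (m : ℕ) : ℕ → Kˣ :=
  fun s => if s = 0 then ω ^ m else if s = 5 then ω ^ (2 * m) else 1

/-- The diagonal elements. -/
noncomputable def dv (ω : Kˣ) (m : ℕ) : GL chevE6.Idx K :=
  diagG chevE6 (chr RootE6T.R chevE6.rank (vv ω m))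

section Gens

variable (ι : ZMod 2 →+* K) (ω : Kˣ) (m : ℕ)

local notation "X" => TwE6.hF.c.xG
local notation "φ" => glM chevE6 ι
local notation "χ" => chr RootE6T.R chevE6.rank (vv ω m)

theorem iota_sq (t : ZMod 2) : (ι t) ^ 2 = ι t := by
  rcases zmod2_eq t with rfl | rfl <;> simp

theorem dv_conj {s : ℕ} (hs : s < chevE6.nroots) (t : K) :
    dv ω m * X s t * (dv ω m)⁻¹ = X s (((χ s : Kˣ) : K) * t) :=
  Cfsg.Agent.Lib.ChevAut.diagG_conj_xG TwE6.hF _ hs t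

theorem mem_single {r : ℕ} (hr : r ∈ [e6p2, e6m2, e6p4, e6m4]) {t : K} (ht : t ^ 2 = t) :
    X r t ∈ twistedE6 K 2 := by
  have h := TwE6.hF.c.wordG_mem_gen (F := K) (S := e6Words K 2) (w := [(r, t)]) (Or.inl ⟨t, ht, r, hr, rfl⟩)
  rwa [Checks.wordG_cons, Checks.wordG_nil, mul_one] at h

theorem mem_pair {rs : ℕ × ℕ} (hrs : rs ∈ [(e6p1, e6p6), (e6m1, e6m6), (e6p3, e6p5), (e6m3, e6m5)]) (t : K) :
    X rs.1 t * X rs.2 (t ^ 2) ∈ twistedE6 K 2 := by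
  have h := TwE6.hF.c.wordG_mem_gen (F := K) (S := e6Words K 2) (w := [(rs.1, t), (rs.2, t ^ 2)]) (Or.inr ⟨t, rs, hrs, rfl⟩)
  rwa [Checks.wordG_cons, Checks.wordG_cons, Checks.wordG_nil, mul_one] at h

theorem single_case {r : ℕ} (hr : r ∈ [e6p2, e6m2, e6p4, e6m4]) (hlt : r < chevE6.nroots) (hχ : χ r = 1) (t : ZMod 2) :
    dv ω m * φ (X r t) * (dv ω m)⁻¹ ∈ twistedE6 K 2 := by
  rw [Fix.glM_xG TwE6.hF, dv_conj ω m hlt, hχ, Units.val_one, one_mul]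
  exact mem_single hr (iota_sq ι t)

theorem pair_case {r r' : ℕ} (hrs : (r, r') ∈ [(e6p1, e6p6), (e6m1, e6m6), (e6p3, e6p5), (e6m3, e6m5)])
    (hlt : r < chevE6.nroots) (hlt' : r' < chevE6.nroots) (u : Kˣ) (hχ : χ r = u) (hχ' : χ r' = u ^ 2) (t : ZMod 2) :
    dv ω m * φ (X r t * X r' t) * (dv ω m)⁻¹ ∈ twistedE6 K 2 := by
  have e : dv ω m * φ (X r t * X r' t) * (dv ω m)⁻¹ =
      (dv ω m * X r (ι t) * (dv ω m)⁻¹) * (dv ω m * X r' (ι t) * (dv ω m)⁻¹) := by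
    rw [map_mul, Fix.glM_xG TwE6.hF, Fix.glM_xG TwE6.hF]
    group
  rw [e, dv_conj ω m hlt, dv_conj ω m hlt', hχ, hχ']
  have h := mem_pair (t := (u : K) * ι t) hrs
  have e2 : ((u : K) * ι t) ^ 2 = ((u ^ 2 : Kˣ) : K) * ι t := by
    rw [mul_pow, iota_sq]
    push_cast
    ring
  rw [e2] at h
  exact h

theorem simple_vals : chevE6.simple 0 = e6p1 ∧ chevE6.simple 1 = e6p2 ∧ chevE6.simple 2 = e6p3 ∧ chevE6.simple 3 = e6p4 ∧
    chevE6.simple 4 = e6p5 ∧ chevE6.simple 5 = e6p6 ∧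
    chevE6.neg e6p1 = e6m1 ∧ chevE6.neg e6p2 = e6m2 ∧ chevE6.neg e6p3 = e6m3 ∧ chevE6.neg e6p4 = e6m4 ∧
    chevE6.neg e6p5 = e6m5 ∧ chevE6.neg e6p6 = e6m6 := by
  decide +kernel

theorem chi_simple {j : ℕ} (hj : j < chevE6.rank) : χ (chevE6.simple j) = vv ω m j :=
  Cfsg.Agent.Lib.ChevAut.chr_simple TwE6.hF _ hj

theorem chi_neg {j : ℕ} (hj : j < chevE6.rank) : χ (chevE6.neg (chevE6.simple j)) = (vv ω m j)⁻¹ := by
  rw [Cfsg.Agent.Lib.ChevAut.chr_neg TwE6.hF _ (TwE6.hF.simple_lt hj), chi_simple ω m hj]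

theorem word2 {r r' : ℕ} (h : TwTabE6.S.r r = r') (t : ZMod 2) :
    TwE6.hF.c.wordG (cw TwTabE6.S.r (RingEquiv.refl (ZMod 2)) r 2 t) = X r t * X r' t := by
  show TwE6.hF.c.wordG [(r, t), (TwTabE6.S.r r, t)] = _
  rw [h, Checks.wordG_cons, Checks.wordG_cons, Checks.wordG_nil, mul_one]

theorem word1 (r : ℕ) (t : ZMod 2) :
    TwE6.hF.c.wordG (cw TwTabE6.S.r (RingEquiv.refl (ZMod 2)) r 1 t) = X r t := by
  show TwE6.hF.c.wordG [(r, t)] = _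
  rw [Checks.wordG_cons, Checks.wordG_nil, mul_one]

theorem vv_vals : vv ω m 0 = ω ^ m ∧ vv ω m 1 = 1 ∧ vv ω m 2 = 1 ∧ vv ω m 3 = 1 ∧ vv ω m 4 = 1 ∧
    vv ω m 5 = (ω ^ m) ^ 2 := by
  refine ⟨rfl, rfl, rfl, rfl, rfl, ?_⟩
  show ω ^ (2 * m) = _
  rw [← pow_mul, mul_comm]

/-- The conjugate by `d` of the generators of `F₄(2)` lie in `²E₆(2)`. -/
theorem gen_conj_mem {g : GL chevE6.Idx (ZMod 2)} (hg : g ∈ scGens (hF := TwE6.hF) (RingEquiv.refl (ZMod 2)) TwTabE6.S.r TwE6.A TwE6.dd) :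
    dv ω m * φ g * (dv ω m)⁻¹ ∈ twistedE6 K 2 := by
  obtain ⟨r0, r2, rm0, rm2⟩ := rho_simple
  obtain ⟨s0, s1, s2, s3, s4, s5, n0, n1, n2, n3, n4, n5⟩ := simple_vals
  obtain ⟨v0, v1, v2, v3, v4, v5⟩ := vv_vals ω m
  have h0 : (0 : ℕ) < chevE6.rank := by decide
  have h1 : (1 : ℕ) < chevE6.rank := by decide
  have h2 : (2 : ℕ) < chevE6.rank := by decide
  have h3 : (3 : ℕ) < chevE6.rank := by decide
  have h4 : (4 : ℕ) < chevE6.rank := by decide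
  have h5 : (5 : ℕ) < chevE6.rank := by decide
  have hp : ∀ j, j < chevE6.rank → chevE6.simple j < chevE6.nroots := fun j hj => TwE6.hF.simple_lt hj
  have hn : ∀ j, j < chevE6.rank → chevE6.neg (chevE6.simple j) < chevE6.nroots := fun j hj => TwE6.hF.neg_lt (TwE6.hF.simple_lt hj)
  have P0 : ∀ t : ZMod 2, dv ω m * φ (X (chevE6.simple 0) t * X (chevE6.simple 5) t) * (dv ω m)⁻¹ ∈ twistedE6 K 2 :=
    fun t => pair_case ι ω m (r := chevE6.simple 0) (r' := chevE6.simple 5) (by rw [s0, s5]; simp) (hp 0 h0) (hp 5 h5)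
      (ω ^ m) (by rw [chi_simple ω m h0, v0]) (by rw [chi_simple ω m h5, v5]) t
  have P2 : ∀ t : ZMod 2, dv ω m * φ (X (chevE6.simple 2) t * X (chevE6.simple 4) t) * (dv ω m)⁻¹ ∈ twistedE6 K 2 :=
    fun t => pair_case ι ω m (r := chevE6.simple 2) (r' := chevE6.simple 4) (by rw [s2, s4]; simp) (hp 2 h2) (hp 4 h4)
      1 (by rw [chi_simple ω m h2, v2]) (by rw [chi_simple ω m h4, v4, one_pow]) t
  have N0 : ∀ t : ZMod 2, dv ω m * φ (X (chevE6.neg (chevE6.simple 0)) t * X (chevE6.neg (chevE6.simple 5)) t) * (dv ω m)⁻¹ ∈ twistedE6 K 2 :=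
    fun t => pair_case ι ω m (r := chevE6.neg (chevE6.simple 0)) (r' := chevE6.neg (chevE6.simple 5))
      (by rw [s0, s5, n0, n5]; simp) (hn 0 h0) (hn 5 h5)
      (ω ^ m)⁻¹ (by rw [chi_neg ω m h0, v0]) (by rw [chi_neg ω m h5, v5, inv_pow]) t
  have N2 : ∀ t : ZMod 2, dv ω m * φ (X (chevE6.neg (chevE6.simple 2)) t * X (chevE6.neg (chevE6.simple 4)) t) * (dv ω m)⁻¹ ∈ twistedE6 K 2 :=
    fun t => pair_case ι ω m (r := chevE6.neg (chevE6.simple 2)) (r' := chevE6.neg (chevE6.simple 4))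
      (by rw [s2, s4, n2, n4]; simp) (hn 2 h2) (hn 4 h4)
      1 (by rw [chi_neg ω m h2, v2, inv_one]) (by rw [chi_neg ω m h4, v4, inv_one, one_pow]) t
  obtain ⟨l, hl, t, -, rfl | rfl⟩ := hg
  · have hl' : l < 6 := hl
    interval_cases l
    · rw [show TwE6.A 0 = 0 from rfl, show TwE6.dd 0 = 2 from rfl, word2 r0]
      exact P0 t
    · rw [show TwE6.A 1 = 1 from rfl, show TwE6.dd 1 = 1 from rfl, word1]
      exact single_case ι ω m (by rw [s1]; simp) (hp 1 h1) (by rw [chi_simple ω m h1, v1]) t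
    · rw [show TwE6.A 2 = 2 from rfl, show TwE6.dd 2 = 2 from rfl, word2 r2]
      exact P2 t
    · rw [show TwE6.A 3 = 3 from rfl, show TwE6.dd 3 = 1 from rfl, word1]
      exact single_case ι ω m (by rw [s3]; simp) (hp 3 h3) (by rw [chi_simple ω m h3, v3]) t
    · rw [show TwE6.A 4 = 2 from rfl, show TwE6.dd 4 = 2 from rfl, word2 r2]
      exact P2 t
    · rw [show TwE6.A 5 = 0 from rfl, show TwE6.dd 5 = 2 from rfl, word2 r0]
      exact P0 t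
  · have hl' : l < 6 := hl
    interval_cases l
    · rw [show TwE6.A 0 = 0 from rfl, show TwE6.dd 0 = 2 from rfl, word2 rm0]
      exact N0 t
    · rw [show TwE6.A 1 = 1 from rfl, show TwE6.dd 1 = 1 from rfl, word1]
      exact single_case ι ω m (by rw [s1, n1]; simp) (hn 1 h1) (by rw [chi_neg ω m h1, v1, inv_one]) t
    · rw [show TwE6.A 2 = 2 from rfl, show TwE6.dd 2 = 2 from rfl, word2 rm2]
      exact N2 t
    · rw [show TwE6.A 3 = 3 from rfl, show TwE6.dd 3 = 1 from rfl, word1]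
      exact single_case ι ω m (by rw [s3, n3]; simp) (hn 3 h3) (by rw [chi_neg ω m h3, v3, inv_one]) t
    · rw [show TwE6.A 4 = 2 from rfl, show TwE6.dd 4 = 2 from rfl, word2 rm2]
      exact N2 t
    · rw [show TwE6.A 5 = 0 from rfl, show TwE6.dd 5 = 2 from rfl, word2 rm0]
      exact N0 t

/-- The conjugates of `F₄(2)` lie in `²E₆(2)`. -/
theorem conj_mem {a : GL chevE6.Idx (ZMod 2)} (ha : a ∈ H2) :
    dv ω m * φ a * (dv ω m)⁻¹ ∈ twistedE6 K 2 := by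
  have h : H2 ≤ (twistedE6 K 2).comap ((MulAut.conj (dv ω m)).toMonoidHom.comp φ) :=
    (Subgroup.closure_le _).2 (fun g hg => gen_conj_mem ι ω m hg)
  exact h ha

end Gens

/-- An element normalizing the image of `H` under an injective map induces an automorphism. -/
theorem exists_aut {A B : Type*} [Group A] [Group B] (φ : A →* B) (hφ : Function.Injective φ) (H : Subgroup A) (z : B)
    (h1 : ∀ a ∈ H, ∃ b ∈ H, z * φ a * z⁻¹ = φ b) (h2 : ∀ b ∈ H, ∃ a ∈ H, z * φ a * z⁻¹ = φ b) :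
    ∃ θ : MulAut ↥H, ∀ a : ↥H, φ (θ a).1 = z * φ a.1 * z⁻¹ := by
  choose! τ hτ1 hτ2 using h1
  let θ₀ : ↥H →* ↥H := MonoidHom.mk' (fun a => ⟨τ a.1, hτ1 a.1 a.2⟩) (by
    intro a b
    apply Subtype.ext
    apply hφ
    show φ (τ (a.1 * b.1)) = φ (τ a.1 * τ b.1)
    rw [map_mul, ← hτ2 _ (H.mul_mem a.2 b.2), ← hτ2 _ a.2, ← hτ2 _ b.2, map_mul]
    group)
  have hθ₀ : ∀ a : ↥H, φ (θ₀ a).1 = z * φ a.1 * z⁻¹ := fun a => (hτ2 a.1 a.2).symm
  have hbij : Function.Bijective θ₀ := by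
    constructor
    · intro a b e
      apply Subtype.ext
      apply hφ
      have e1 := hθ₀ a
      rw [e, hθ₀ b] at e1
      have e2 : z * φ b.1 * z⁻¹ = z * φ a.1 * z⁻¹ := e1
      exact (mul_left_cancel (mul_right_cancel e2)).symm
    · intro b
      obtain ⟨a, ha, e⟩ := h2 b.1 b.2
      refine ⟨⟨a, ha⟩, ?_⟩
      apply Subtype.ext
      apply hφ
      rw [hθ₀, ← e]
  exact ⟨MulEquiv.ofBijective θ₀ hbij, hθ₀⟩

section Main

variable [Fintype K] (ι : ZMod 2 →+* K) (ω : Kˣ)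

local notation "X" => TwE6.hF.c.xG
local notation "φ" => glM chevE6 ι

omit [Fintype K] in
theorem dv_inv_conj_group (m : ℕ) {g : GL chevE6.Idx K} (hg : g ∈ chevE6.group K) :
    (dv ω m)⁻¹ * g * dv ω m ∈ chevE6.group K := by
  have h1 := Cfsg.Agent.Lib.ChevAut.diagG_conj_mem TwE6.hF (vv ω m)⁻¹ hg
  rw [← Cfsg.Agent.Lib.ChevAut.diagG_chr_inv TwE6.hF (vv ω m), inv_inv] at h1
  exact h1

omit [Fintype K] in
theorem phi_H2_group {a : GL chevE6.Idx (ZMod 2)} (ha : a ∈ H2) : φ a ∈ chevE6.group K :=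
  map_group_le chevE6 ι ⟨a, ((TwE6.sc (RingEquiv.refl (ZMod 2))).G1_le_Fx ha).1, rfl⟩

/-- The element `c = d_j⁻¹ d_i` is diagonal. -/
theorem dv_div (i j : ℕ) : (dv ω j)⁻¹ * dv ω i =
    diagG chevE6 (chr RootE6T.R chevE6.rank ((vv ω j)⁻¹ * vv ω i)) := by
  unfold dv
  rw [Cfsg.Agent.Lib.ChevAut.diagG_chr_inv TwE6.hF, diagG_mul]
  congr 1
  funext s
  rw [Pi.mul_apply, chr_mul]

/-- Elements scaling root elements normalize `U`. -/
theorem scale_conj_U {F : Type*} [Field F] {T : Tabs} {X' : Extra} {R : RootTab} {D : ChevalleyDatum} (hF : Full T X' R D)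
    {g : GL D.Idx F} {χ : ℕ → Fˣ}
    (hg : ∀ s < D.nroots, ∀ t : F, g * hF.c.xG s t * g⁻¹ = hF.c.xG s (((χ s : Fˣ) : F) * t))
    {u : GL D.Idx F} (hu : u ∈ D.posUnipotent F) : g * u * g⁻¹ ∈ D.posUnipotent F := by
  have h2 : D.posUnipotent F ≤ (D.posUnipotent F).comap (MulAut.conj g).toMonoidHom := by
    conv_lhs => rw [ChevalleyDatum.posUnipotent]
    rw [Subgroup.closure_le]
    rintro y ⟨s, a, hs, hy⟩
    show g * y * g⁻¹ ∈ D.posUnipotent F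
    have h3 := (hF.isPos_iff).1 hs
    rw [hF.c.eq_xG hy, hg s h3.1]
    exact hF.xG_mem_U h3.1 h3.2 _
  exact h2 hu

/-- The values on the torus satisfy a relation, since the cubes of all elements of `𝔽₄ˣ` are one. -/
theorem torus_relation (hcube : ∀ a : Kˣ, a ^ 3 = 1) (c : Fin chevE6.rank → Kˣ) :
    cartanMap chevE6 c 0 * (cartanMap chevE6 c 2)⁻¹ * cartanMap chevE6 c 4 * (cartanMap chevE6 c 5)⁻¹ = 1 := by
  obtain ⟨a0, a1, a2, a3, a4, a5⟩ := TwE6.cartan_vals0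
  obtain ⟨b0, b1, b2, b3, b4, b5⟩ := TwE6.cartan_vals2
  obtain ⟨c0, c1, c2, c3, c4, c5⟩ := TwE6.cartan_vals4
  obtain ⟨d0, d1, d2, d3, d4, d5⟩ := TwE6.cartan_vals5
  rw [TwE6.cartanMap_expand c 0, TwE6.cartanMap_expand c 2, TwE6.cartanMap_expand c 4, TwE6.cartanMap_expand c 5,
    a0, a1, a2, a3, a4, a5, b0, b1, b2, b3, b4, b5, c0, c1, c2, c3, c4, c5, d0, d1, d2, d3, d4, d5]
  generalize c ⟨0, by decide⟩ = x0
  generalize c ⟨1, by decide⟩ = x1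
  generalize c ⟨2, by decide⟩ = x2
  generalize c ⟨3, by decide⟩ = x3
  generalize c ⟨4, by decide⟩ = x4
  generalize c ⟨5, by decide⟩ = x5
  have e : ∀ y0 y2 y3 y4 y5 : Kˣ, (y0 ^ (2 : ℤ) * y2 ^ (-1 : ℤ)) * (y0 ^ (-1 : ℤ) * y2 ^ (2 : ℤ) * y3 ^ (-1 : ℤ))⁻¹ *
      (y3 ^ (-1 : ℤ) * y4 ^ (2 : ℤ) * y5 ^ (-1 : ℤ)) * (y4 ^ (-1 : ℤ) * y5 ^ (2 : ℤ))⁻¹ =
      y0 ^ 3 * (y2 ^ 3)⁻¹ * y4 ^ 3 * (y5 ^ 3)⁻¹ := by
    intro y0 y2 y3 y4 y5
    apply Units.ext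
    have h0 := y0.ne_zero
    have h2 := y2.ne_zero
    have h3 := y3.ne_zero
    have h4 := y4.ne_zero
    have h5 := y5.ne_zero
    push_cast
    field_simp
  have e2 := e x0 x2 x3 x4 x5
  rw [hcube, hcube, hcube, hcube] at e2
  simp only [inv_one, mul_one] at e2
  simp only [zpow_zero, mul_one, one_mul]
  exact e2

/-- The relation fails for distinct powers. -/
theorem vv_relation_ne (hcube : ∀ a : Kˣ, a ^ 3 = 1) (hω : ω ≠ 1) {i j : ℕ} (hi : i < 3) (hj : j < 3) (hij : i ≠ j) :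
    ((vv ω j)⁻¹ * vv ω i) 0 * (((vv ω j)⁻¹ * vv ω i) 2)⁻¹ * ((vv ω j)⁻¹ * vv ω i) 4 * (((vv ω j)⁻¹ * vv ω i) 5)⁻¹ ≠ 1 := by
  have e : ((vv ω j)⁻¹ * vv ω i) 0 * (((vv ω j)⁻¹ * vv ω i) 2)⁻¹ * ((vv ω j)⁻¹ * vv ω i) 4 * (((vv ω j)⁻¹ * vv ω i) 5)⁻¹ =
      ω ^ ((j : ℤ) - i) := by
    have e0 : ((vv ω j)⁻¹ * vv ω i) 0 = (ω ^ j)⁻¹ * ω ^ i := rfl
    have e2 : ((vv ω j)⁻¹ * vv ω i) 2 = 1⁻¹ * 1 := rfl
    have e4 : ((vv ω j)⁻¹ * vv ω i) 4 = 1⁻¹ * 1 := rfl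
    have e5 : ((vv ω j)⁻¹ * vv ω i) 5 = (ω ^ (2 * j))⁻¹ * ω ^ (2 * i) := rfl
    rw [e0, e2, e4, e5]
    simp only [inv_one, mul_one, one_mul, mul_inv, inv_inv]
    simp only [← zpow_natCast, ← _root_.zpow_neg, ← _root_.zpow_add]
    congr 1
    push_cast
    ring
  rw [e]
  intro h
  have : Fact (Nat.Prime 3) := ⟨Nat.prime_three⟩
  have ho : orderOf ω = 3 := orderOf_eq_prime (hcube ω) hω
  have h3 := orderOf_dvd_iff_zpow_eq_one.2 h
  rw [ho] at h3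
  omega

/-- **Non-conjugacy.** -/
theorem no_conj (hcube : ∀ a : Kˣ, a ^ 3 = 1) (hω : ω ≠ 1) {i j : ℕ} (hi : i < 3) (hj : j < 3) (hij : i ≠ j)
    {g : GL chevE6.Idx K} (hg : g ∈ chevE6.group K)
    (h1 : ∀ a ∈ H2, ∃ b ∈ H2, g * (dv ω i * φ a * (dv ω i)⁻¹) * g⁻¹ = dv ω j * φ b * (dv ω j)⁻¹)
    (h2 : ∀ b ∈ H2, ∃ a ∈ H2, g * (dv ω i * φ a * (dv ω i)⁻¹) * g⁻¹ = dv ω j * φ b * (dv ω j)⁻¹) : False := by
  have hφ := glM_injective chevE6 ι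
  set z := (dv ω j)⁻¹ * g * dv ω i with hz
  have hz1 : ∀ a ∈ H2, ∃ b ∈ H2, z * φ a * z⁻¹ = φ b := by
    intro a ha
    obtain ⟨b, hb, e⟩ := h1 a ha
    refine ⟨b, hb, ?_⟩
    have e2 : z * φ a * z⁻¹ = (dv ω j)⁻¹ * (g * (dv ω i * φ a * (dv ω i)⁻¹) * g⁻¹) * dv ω j := by
      rw [hz]
      group
    rw [e2, e]
    group
  have hz2 : ∀ b ∈ H2, ∃ a ∈ H2, z * φ a * z⁻¹ = φ b := by
    intro b hb
    obtain ⟨a, ha, e⟩ := h2 b hb
    refine ⟨a, ha, ?_⟩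
    have e2 : z * φ a * z⁻¹ = (dv ω j)⁻¹ * (g * (dv ω i * φ a * (dv ω i)⁻¹) * g⁻¹) * dv ω j := by
      rw [hz]
      group
    rw [e2, e]
    group
  obtain ⟨θ, hθ⟩ := exists_aut φ hφ H2 z hz1 hz2
  have : Fact (Nat.Prime 2) := ⟨Nat.prime_two⟩
  obtain ⟨P, hP⟩ := exists_sylow
  obtain ⟨a₀, ha₀⟩ := sylow_aut P θ
  rw [hP] at ha₀
  set e := φ a₀.1 * ((dv ω j)⁻¹ * g * dv ω j) with he
  set v' := (vv ω j)⁻¹ * vv ω i with hv'
  set c := (dv ω j)⁻¹ * dv ω i with hc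
  have hec : e * c = φ a₀.1 * z := by
    rw [he, hc, hz]
    group
  have hcs : ∀ s < chevE6.nroots, ∀ t : K, c * X s t * c⁻¹ =
      X s (((chr RootE6T.R chevE6.rank v' s : Kˣ) : K) * t) := by
    intro s hs t
    rw [hc, dv_div]
    exact Cfsg.Agent.Lib.ChevAut.diagG_conj_xG TwE6.hF _ hs t
  have key : ∀ x, x ∈ chevE6.posUnipotent (ZMod 2) → x ∈ H2 →
      ∃ s, s ∈ chevE6.posUnipotent (ZMod 2) ∧ s ∈ H2 ∧ e⁻¹ * φ x * e = c * φ s * c⁻¹ := by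
    intro x hxU hxH
    let s' : ↥H2 := ⟨x, hxH⟩
    let s : ↥H2 := θ.symm (a₀⁻¹ * s' * a₀)
    have hs1 : a₀ * θ s * a₀⁻¹ = s' := by
      have : θ s = a₀⁻¹ * s' * a₀ := θ.apply_symm_apply _
      rw [this]
      group
    have hs2 : s ∈ S2 := (ha₀ s).2 (by rw [hs1]; exact Subgroup.mem_subgroupOf.2 hxU)
    refine ⟨s.1, Subgroup.mem_subgroupOf.1 hs2, s.2, ?_⟩
    have hx : φ x = φ a₀.1 * φ (θ s).1 * (φ a₀.1)⁻¹ := by
      have h3 : x = a₀.1 * (θ s).1 * a₀.1⁻¹ := (congrArg Subtype.val hs1).symm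
      conv_lhs => rw [h3]
      rw [map_mul, map_mul, map_inv]
    rw [hθ s] at hx
    have hx2 : φ x = (e * c) * φ s.1 * (e * c)⁻¹ := by
      rw [hec, hx]
      group
    rw [hx2]
    group
  have hgE : e ∈ chevE6.group K :=
    Subgroup.mul_mem _ (phi_H2_group ι a₀.2) (dv_inv_conj_group ω j hg)
  have hone : ι 1 = 1 := map_one ι
  have hB : e⁻¹ ∈ chevE6.borelSubgroup K := by
    refine mem_borel_of_conj TwE6.hF (S := {y | ∃ x, x ∈ chevE6.posUnipotent (ZMod 2) ∧ x ∈ H2 ∧ y = φ x}) ?_ ?_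
      (Subgroup.inv_mem _ hgE) ?_
    · rintro y ⟨x, hx, -, rfl⟩
      exact glM_U TwE6.hF ι hx
    · intro k hk
      exact ⟨φ (yk k), ⟨yk k, yk_U hk, yk_mem_H2 hk, rfl⟩, ι 1, by rw [hone]; exact one_ne_zero,
        coord_glM TwE6.hF ι (yk_coord hk)⟩
    · rintro y ⟨x, hx, hxH, rfl⟩
      obtain ⟨s, hsU, -, es⟩ := key x hx hxH
      rw [inv_inv, es]
      exact scale_conj_U TwE6.hF hcs (glM_U TwE6.hF ι hsU)
  obtain ⟨u, hu, h, hh, e3⟩ := (TwE6.hF.mem_borel_iff).1 hB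
  obtain ⟨c₀, rfl⟩ := (TwE6.hF.mem_diagonal_iff).1 hh
  have hvals : ∀ k, k < chevE6.rank → cartanMap chevE6 c₀ k = v' k := by
    intro k hk
    obtain ⟨s, hsU, -, es⟩ := key (yk k) (yk_U hk) (yk_mem_H2 hk)
    have hL := coord_conj_U TwE6.hF hk (coord_tor TwE6.hF c₀ hk (coord_glM TwE6.hF ι (yk_coord hk))) hu
    obtain ⟨τ, hτ⟩ := coord_exists TwE6.hF hk hsU
    have hR := coord_scale TwE6.hF hcs hk (coord_glM TwE6.hF ι hτ)
    have e4 : u * (tor RootE6T.R chevE6 c₀ * φ (yk k) * (tor RootE6T.R chevE6 c₀)⁻¹) * u⁻¹ = e⁻¹ * φ (yk k) * e := by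
      have e5 : e = (u * tor RootE6T.R chevE6 c₀)⁻¹ := by
        rw [← e3, inv_inv]
      rw [e5]
      group
    rw [e4, es] at hL
    have e6 := coord_unique TwE6.hF hk hL hR
    rw [hone, mul_one, TwE6.hF.chiT_eq_chr c₀ (TwE6.hF.simple_lt hk), TwE6.hF.chr_simple _ hk, TwE6.hF.chr_simple _ hk] at e6
    rcases zmod2_eq τ with rfl | rfl
    · rw [map_zero, mul_zero] at e6
      exact absurd e6 (Units.ne_zero _)
    · rw [hone, mul_one] at e6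
      exact Units.ext e6
  have hrel := torus_relation hcube c₀
  rw [hvals 0 (by decide), hvals 2 (by decide), hvals 4 (by decide), hvals 5 (by decide)] at hrel
  exact vv_relation_ne ω hcube hω hi hj hij hrel

end Main

end Cfsg.Agent.Lib.TwE6F4
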